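import Groth.Agent.WeakAssFlat.Basic
import Groth.Agent.Hensel.FibreProd
import Groth.Agent.Hensel.HenselizationProps
import Groth.Agent.UnramLib.FlatUnram

/-! The closed point is weakly associated iff it is so on a (strict) henselization. -/

set_option autoImplicit false

universe u

namespace Groth.Agent.WeakAssFlat

open TensorProduct IsLocalRing Groth.Agent.WeakAssAlg

section
variable {A S : Type u} [CommRing A] [CommRing S] [Algebra A S] {M : Type u} [AddCommGroup M] [Module A M]

theorem rTensor_smul {E : Type u} [CommRing E] [Algebra A E] (φ : E →ₐ[A] S) (e : E) (y : E ⊗[A] M) :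
    φ.toLinearMap.rTensor M (e • y) = φ e • φ.toLinearMap.rTensor M y := by
  induction y using TensorProduct.induction_on with
  | zero => simp
  | tmul a b => simp [TensorProduct.smul_tmul']
  | add a b ha hb => rw [smul_add, map_add, map_add, ha, hb, smul_add]

theorem exists_stage (hS : Groth.Agent.Hensel.HasEtaleStages A S) (z : S ⊗[A] M) :
    ∃ (E : Type u) (_ : CommRing E) (_ : Algebra A E) (_ : Algebra.Etale A E) (φ : E →ₐ[A] S)
      (y : E ⊗[A] M) (t : E), IsUnit (φ t) ∧ φ t • z = φ.toLinearMap.rTensor M y := by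
  induction z using TensorProduct.induction_on with
  | zero => exact ⟨A, inferInstance, inferInstance, inferInstance, Algebra.ofId A S, 0, 1, by simp, by simp⟩
  | tmul b m =>
    obtain ⟨E, _, _, hE, φ, x, t, ht, hb⟩ := hS b
    refine ⟨E, inferInstance, inferInstance, hE, φ, x ⊗ₜ m, t, ht, ?_⟩
    rw [TensorProduct.smul_tmul', LinearMap.rTensor_tmul, smul_eq_mul, mul_comm, hb]
    rfl
  | add z₁ z₂ h₁ h₂ =>
    obtain ⟨E₁, _, _, hE₁, φ₁, y₁, t₁, ht₁, h₁⟩ := h₁
    obtain ⟨E₂, _, _, hE₂, φ₂, y₂, t₂, ht₂, h₂⟩ := h₂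
    let i₁ : E₁ →ₐ[A] E₁ ⊗[A] E₂ := Algebra.TensorProduct.includeLeft
    let i₂ : E₂ →ₐ[A] E₁ ⊗[A] E₂ := Algebra.TensorProduct.includeRight
    let φ : E₁ ⊗[A] E₂ →ₐ[A] S := Algebra.TensorProduct.productMap φ₁ φ₂
    haveI : Algebra.Etale A (E₁ ⊗[A] E₂) := Algebra.Etale.comp A E₁ (E₁ ⊗[A] E₂)
    refine ⟨_, inferInstance, inferInstance, inferInstance, φ,
      i₂ t₂ • i₁.toLinearMap.rTensor M y₁ + i₁ t₁ • i₂.toLinearMap.rTensor M y₂, i₁ t₁ * i₂ t₂, ?_, ?_⟩
    · simp only [map_mul, φ, i₁, i₂, Algebra.TensorProduct.includeLeft_apply,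
        Algebra.TensorProduct.includeRight_apply, Algebra.TensorProduct.productMap_apply_tmul, map_one,
        mul_one, one_mul]
      exact ht₁.mul ht₂
    · have e₁ : φ.comp i₁ = φ₁ := Algebra.TensorProduct.productMap_left φ₁ φ₂
      have e₂ : φ.comp i₂ = φ₂ := Algebra.TensorProduct.productMap_right φ₁ φ₂
      rw [map_add, rTensor_smul, rTensor_smul, map_mul, ← AlgHom.comp_apply, ← AlgHom.comp_apply, e₁, e₂,
        ← LinearMap.comp_apply, ← LinearMap.rTensor_comp, ← AlgHom.comp_toLinearMap, e₁,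
        ← LinearMap.comp_apply, ← LinearMap.rTensor_comp, ← AlgHom.comp_toLinearMap, e₂, ← h₁, ← h₂,
        smul_add, ← mul_smul, ← mul_smul, mul_comm (φ₂ t₂)]

/-- An element dying in a flat extension has an annihilator generating the unit ideal there. -/
theorem map_annihilator_eq_top {E : Type u} [CommRing E] [Algebra A E] [Algebra E S] [IsScalarTower A E S]
    [Module.Flat E S] (y : E ⊗[A] M) (hy : (IsScalarTower.toAlgHom A E S).toLinearMap.rTensor M y = 0) :
    (Submodule.span E {y}).annihilator.map (algebraMap E S) = ⊤ := by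
  let J : Ideal E := (Submodule.span E {y}).annihilator
  have hker : J ≤ LinearMap.ker (LinearMap.toSpanSingleton E (E ⊗[A] M) y) := fun r hr => by
    simpa using (Submodule.mem_annihilator_span_singleton y r).1 hr
  let ψ : (E ⧸ J) →ₗ[E] E ⊗[A] M := Submodule.liftQ J (LinearMap.toSpanSingleton E _ y) hker
  have hψ : Function.Injective ψ := by
    rw [← LinearMap.ker_eq_bot]
    refine Submodule.ker_liftQ_eq_bot _ _ _ fun r hr => (Submodule.mem_annihilator_span_singleton y r).2 ?_
    simpa using hr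
  have hc : ∀ w : E ⊗[A] M, AlgebraTensorModule.cancelBaseChange A E E S M ((1 : S) ⊗ₜ[E] w) =
      (IsScalarTower.toAlgHom A E S).toLinearMap.rTensor M w := by
    intro w
    induction w using TensorProduct.induction_on with
    | zero => simp
    | tmul e m => simp [Algebra.smul_def]
    | add a b ha hb => rw [TensorProduct.tmul_add, map_add, map_add, ha, hb]
  have h0 : (1 : S) ⊗ₜ[E] (Submodule.Quotient.mk (p := J) (1 : E)) = 0 := by
    refine Module.Flat.lTensor_preserves_injective_linearMap ψ hψ (?_ : ψ.lTensor S _ = ψ.lTensor S 0)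
    rw [map_zero, LinearMap.lTensor_tmul, show ψ (Submodule.Quotient.mk (1 : E)) = y from one_smul E y]
    exact (AlgebraTensorModule.cancelBaseChange A E E S M).injective (((hc y).trans hy).trans (map_zero _).symm)
  have h1 := congrArg (TensorProduct.tensorQuotEquivQuotSMul S J) h0
  rw [map_zero, show TensorProduct.tensorQuotEquivQuotSMul S J ((1 : S) ⊗ₜ[E] Submodule.Quotient.mk (p := J) (1 : E)) =
      Submodule.Quotient.mk (1 : S) from TensorProduct.quotTensorEquivQuotSMul_mk_one_tmul J (1 : S),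
    Submodule.Quotient.mk_eq_zero, Ideal.smul_top_eq_map] at h1
  exact (Ideal.eq_top_iff_one _).2 h1

end

theorem maximal_iff {A S : Type u} [CommRing A] [IsLocalRing A] [CommRing S] [IsLocalRing S] [Algebra A S]
    [IsLocalHom (algebraMap A S)] [Module.Flat A S]
    (hmap : (maximalIdeal A).map (algebraMap A S) = maximalIdeal S)
    (hS : Groth.Agent.Hensel.HasEtaleStages A S) (M : Type u) [AddCommGroup M] [Module A M] :
    maximalIdeal S ∈ FlatCA.weakAss S (S ⊗[A] M) ↔ maximalIdeal A ∈ FlatCA.weakAss A M := by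
  have hcomap : (maximalIdeal S).under A = maximalIdeal A :=
    IsLocalRing.maximalIdeal_comap (algebraMap A S)
  refine ⟨fun h => ?_, fun h => up (maximalIdeal S) hcomap (fun Q hQ hle hQA => le_antisymm hle ?_) h⟩
  swap
  · rw [← hmap, Ideal.map_le_iff_le_comap]
    exact hQA.ge
  obtain ⟨-, z, h1, h2⟩ := mem_weakAss_iff.1 h
  obtain ⟨E, _, _, hE, φ, y, t, ht, hzy⟩ := exists_stage hS z
  letI : Algebra E S := φ.toRingHom.toAlgebra
  haveI : IsScalarTower A E S := IsScalarTower.of_algebraMap_eq fun a => (φ.commutes a).symm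
  haveI : Module.Flat E S := Groth.Agent.UnramLib.flat_of_formallyUnramified A E S
  have hφ : (IsScalarTower.toAlgHom A E S) = φ := AlgHom.ext fun _ => rfl
  let q : Ideal E := (maximalIdeal S).comap φ.toRingHom
  haveI : q.IsPrime := Ideal.IsPrime.comap _
  have hq : q.under A = maximalIdeal A := by
    rw [← hcomap]
    ext a
    show φ (algebraMap A E a) ∈ maximalIdeal S ↔ _
    rw [φ.commutes]
    rfl
  refine down_etale q hq (mem_weakAss_iff.2 ⟨inferInstance, y, fun r hr => ?_, fun x hx => ?_⟩)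
  · refine h1 (φ r) ?_
    have := congrArg (φ.toLinearMap.rTensor M) hr
    rw [rTensor_smul, map_zero, ← hzy, smul_comm] at this
    exact (IsUnit.smul_eq_zero ht).1 this
  · obtain ⟨s, hs, n, hn⟩ := h2 (φ x) hx
    rw [mul_smul] at hn
    have hn' : φ x ^ n • z = 0 := (IsUnit.smul_eq_zero (IsLocalRing.notMem_maximalIdeal.1 hs)).1 hn
    have h0 : φ.toLinearMap.rTensor M (x ^ n • y) = 0 := by
      rw [rTensor_smul, ← hzy, smul_comm, map_pow, hn', smul_zero]
    have htop := map_annihilator_eq_top (x ^ n • y) (by rw [hφ]; exact h0)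
    obtain ⟨s', hs', hsq⟩ : ∃ s' ∈ (Submodule.span E {x ^ n • y}).annihilator, s' ∉ q := by
      by_contra! hno
      refine (maximalIdeal.isMaximal S).ne_top (top_le_iff.1 (htop ▸ Ideal.map_le_iff_le_comap.2 ?_))
      exact fun e he => hno e he
    refine ⟨s', hsq, n, ?_⟩
    rw [mul_smul]
    exact (Submodule.mem_annihilator_span_singleton _ _).1 hs'

end Groth.Agent.WeakAssFlat
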