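import Groth.Agent.WeakAssAlg.Basic
import Mathlib.RingTheory.Flat.Stability
import Mathlib.RingTheory.LocalRing.Module
import Mathlib.RingTheory.QuasiFinite.Basic
import Mathlib.RingTheory.Localization.BaseChange
import Mathlib.RingTheory.Ideal.GoingUp
import Mathlib.LinearAlgebra.TensorProduct.Quotient
import Mathlib.LinearAlgebra.DirectSum.Finsupp
import Mathlib.RingTheory.AdjoinRoot
import Mathlib.RingTheory.Unramified.LocalStructure
import Mathlib.RingTheory.Etale.QuasiFinite

/-! Weakly associated primes and base change along finite flat and etale maps. -/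

set_option autoImplicit false

universe u

namespace Groth.Agent.WeakAssFlat

open TensorProduct Groth.Agent.WeakAssAlg

theorem iff_of_equiv {R : Type u} [CommRing R] {M N : Type u} [AddCommGroup M] [Module R M]
    [AddCommGroup N] [Module R N] (e : M ≃ₗ[R] N) (p : Ideal R) :
    p ∈ FlatCA.weakAss R M ↔ p ∈ FlatCA.weakAss R N := by
  rw [mem_weakAss_iff, mem_weakAss_iff]
  refine and_congr_right fun _ => ⟨fun ⟨m, h1, h2⟩ => ⟨e m, fun r hr => h1 r ?_, fun x hx => ?_⟩,
    fun ⟨m, h1, h2⟩ => ⟨e.symm m, fun r hr => h1 r ?_, fun x hx => ?_⟩⟩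
  · exact e.injective (by rw [map_smul, hr, map_zero])
  · obtain ⟨s, hs, n, hn⟩ := h2 x hx
    exact ⟨s, hs, n, by rw [← map_smul, hn, map_zero]⟩
  · exact e.symm.injective (by rw [map_smul, hr, map_zero])
  · obtain ⟨s, hs, n, hn⟩ := h2 x hx
    exact ⟨s, hs, n, by rw [← map_smul, hn, map_zero]⟩

theorem loc_iff' {R : Type u} [CommRing R] (S : Submonoid R) {M N : Type u} [AddCommGroup M] [Module R M]
    [AddCommGroup N] [Module R N] (f : M →ₗ[R] N) [IsLocalizedModule S f] (p : Ideal R) [p.IsPrime]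
    (hd : Disjoint (S : Set R) (p : Set R)) :
    p ∈ FlatCA.weakAss R M ↔ p ∈ FlatCA.weakAss R N :=
  (loc_iff S hd).trans (iff_of_equiv (IsLocalizedModule.iso S f) p)

theorem up {A B : Type u} [CommRing A] [CommRing B] [Algebra A B] [Module.Flat A B]
    {M : Type u} [AddCommGroup M] [Module A M] {p : Ideal A} [p.IsPrime] (t : Ideal B) [t.IsPrime]
    (ht : t.under A = p)
    (hinc : ∀ Q : Ideal B, Q.IsPrime → Q ≤ t → Q.under A = p → Q = t)
    (h : p ∈ FlatCA.weakAss A M) : t ∈ FlatCA.weakAss B (B ⊗[A] M) := by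
  obtain ⟨m, hm⟩ := h
  let J : Ideal A := (Submodule.span A {m}).annihilator
  have hJ : ∀ r : A, r ∈ J ↔ r • m = 0 := fun r => Submodule.mem_annihilator_span_singleton m r
  refine ⟨(1 : B) ⊗ₜ[A] m, ?_⟩
  have hker : J ≤ LinearMap.ker (LinearMap.toSpanSingleton A M m) := fun r hr => by simpa using (hJ r).1 hr
  let φ : (A ⧸ J) →ₗ[A] M := Submodule.liftQ J (LinearMap.toSpanSingleton A M m) hker
  have hφ : Function.Injective φ := by
    rw [← LinearMap.ker_eq_bot]
    refine Submodule.ker_liftQ_eq_bot _ _ _ fun r hr => (hJ r).2 ?_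
    simpa using hr
  have hann : ∀ b : B, b ∈ (Submodule.span B {(1 : B) ⊗ₜ[A] m}).annihilator ↔ b ∈ J.map (algebraMap A B) := by
    intro b
    rw [Submodule.mem_annihilator_span_singleton, TensorProduct.smul_tmul', smul_eq_mul, mul_one]
    constructor
    · intro hb
      have h0 : b ⊗ₜ[A] (Submodule.Quotient.mk (p := J) (1 : A)) = 0 := by
        refine Module.Flat.lTensor_preserves_injective_linearMap φ hφ (?_ : φ.lTensor B _ = φ.lTensor B 0)
        rw [map_zero, LinearMap.lTensor_tmul, show φ (Submodule.Quotient.mk (1 : A)) = m from one_smul A m]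
        exact hb
      have h1 := congrArg (TensorProduct.tensorQuotEquivQuotSMul B J) h0
      rw [map_zero, show TensorProduct.tensorQuotEquivQuotSMul B J (b ⊗ₜ[A] Submodule.Quotient.mk (p := J) (1 : A)) =
          Submodule.Quotient.mk b from TensorProduct.quotTensorEquivQuotSMul_mk_one_tmul J b,
        Submodule.Quotient.mk_eq_zero, Ideal.smul_top_eq_map] at h1
      exact h1
    · intro hb
      induction hb using Submodule.span_induction with
      | mem x hx =>
        obtain ⟨r, hr, rfl⟩ := hx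
        rw [Algebra.algebraMap_eq_smul_one, TensorProduct.smul_tmul, (hJ r).1 hr, TensorProduct.tmul_zero]
      | zero => rw [TensorProduct.zero_tmul]
      | add x y _ _ hx hy => rw [TensorProduct.add_tmul, hx, hy, add_zero]
      | smul c x _ hx =>
        have := congrArg (c • ·) hx
        simpa [TensorProduct.smul_tmul'] using this
  refine ⟨⟨inferInstance, fun b hb => ?_⟩, fun Q hQ hQt => ?_⟩
  · exact (Ideal.map_le_iff_le_comap.2 (fun r hr => by
      show r ∈ t.under A
      rw [ht]; exact hm.1.2 hr)) ((hann b).1 hb)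
  · have hQp : Q.under A ≤ p := ht ▸ Ideal.comap_mono hQt
    haveI := hQ.1
    have heq : Q.under A = p := le_antisymm hQp (hm.2 ⟨inferInstance, fun r hr =>
      hQ.2 ((hann _).2 (Ideal.mem_map_of_mem _ hr))⟩ hQp)
    exact (hinc Q hQ.1 hQt heq).ge

theorem down_finite {A B : Type u} [CommRing A] [CommRing B] [Algebra A B] [Module.Finite A B]
    [Module.Flat A B] {M : Type u} [AddCommGroup M] [Module A M] {p : Ideal A} [p.IsPrime]
    (t : Ideal B) [t.IsPrime] (ht : t.under A = p)
    (h : t ∈ FlatCA.weakAss B (B ⊗[A] M)) : p ∈ FlatCA.weakAss A M := by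
  classical
  obtain ⟨z, hz⟩ := h
  haveI : t.LiesOver p := ⟨ht.symm⟩
  have hfin : ((p.primesOver B) \ {t}).Finite :=
    (Algebra.QuasiFinite.finite_primesOver p).subset Set.diff_subset
  obtain ⟨g, hgt, hg⟩ : ∃ g ∈ t, ∀ Q ∈ p.primesOver B, Q ≠ t → g ∉ Q := by
    by_contra! hno
    have hsub : (t : Set B) ⊆ ⋃ Q ∈ ((hfin.toFinset : Finset (Ideal B)) : Set (Ideal B)), (Q : Set B) := fun x hx => by
      obtain ⟨Q, hQ, hne, hxQ⟩ := hno x hx
      exact Set.mem_biUnion (by simpa using ⟨hQ, hne⟩) hxQ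
    obtain ⟨Q, hQ, htQ⟩ := (Ideal.subset_union_prime t t (fun i hi _ _ => by
      have := hfin.mem_toFinset.1 hi
      exact this.1.1)).1 hsub
    obtain ⟨⟨hQp, hQo⟩, hne⟩ := hfin.mem_toFinset.1 hQ
    haveI := hQp
    exact hne (Algebra.QuasiFinite.eq_of_le_of_under_eq (R := A) t Q htQ (ht.trans hQo.over)).symm
  obtain ⟨hle, hmin⟩ := Groth.Agent.WeakAssAlg.mem_minimalPrimes_iff.1 hz
  obtain ⟨e, he, n, hn⟩ := hmin g hgt
  rw [Submodule.mem_annihilator_span_singleton] at hn
  let w : B ⊗[A] M := e • z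
  have hgw : g ^ n • w = 0 := by rw [show g ^ n • w = g ^ n • e • z from rfl, ← mul_smul, mul_comm, hn]
  have honly : ∀ P : Ideal B, P.IsPrime → (∀ b : B, b • w = 0 → b ∈ P) → P.under A ≤ p → P = t := by
    intro P hP hPw hPp
    obtain ⟨Q, hPQ, hQp, hQo⟩ := Ideal.exists_ideal_over_prime_of_isIntegral p P hPp
    have hQt : Q = t := by
      by_contra hne
      exact hg Q ⟨hQp, ⟨hQo.symm⟩⟩ hne (hPQ (hP.mem_of_pow_mem n (hPw _ hgw)))
    have hPt : P ≤ t := hQt ▸ hPQ
    refine le_antisymm hPt (hz.2 ⟨hP, fun b hb => hPw b ?_⟩ hPt)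
    rw [Submodule.mem_annihilator_span_singleton] at hb
    rw [show b • w = b • e • z from rfl, smul_comm, hb, smul_zero]
  have hK : ∀ r : A, r • w = 0 → r ∈ p := fun r hr => by
    rw [← algebraMap_smul B, show (algebraMap A B r) • w = algebraMap A B r • e • z from rfl, ← mul_smul,
      ← Submodule.mem_annihilator_span_singleton] at hr
    rw [← ht]
    exact ((‹t.IsPrime›).mem_or_mem (hle hr)).resolve_right he
  have hp : ∀ a ∈ p, ∃ s ∉ p, ∃ k : ℕ, (s * a ^ k) • w = 0 := by
    intro a ha
    by_contra! hno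
    let T : Submonoid B := (p.primeCompl ⊔ Submonoid.powers a).map (algebraMap A B)
    have hdis : Disjoint ((Submodule.span B {w}).annihilator : Set B) T := by
      rw [Set.disjoint_left]
      rintro x hx ⟨y, hy, rfl⟩
      obtain ⟨s, hs, _, ⟨k, rfl⟩, rfl⟩ := Submonoid.mem_sup.1 hy
      rw [SetLike.mem_coe, Submodule.mem_annihilator_span_singleton, algebraMap_smul] at hx
      exact hno s hs k hx
    obtain ⟨P, hP, hIP, hPT⟩ := Ideal.exists_le_prime_disjoint _ T hdis
    have hmem : ∀ y ∈ p.primeCompl ⊔ Submonoid.powers a, algebraMap A B y ∉ P := fun y hy hyP =>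
      Set.disjoint_left.1 hPT hyP ⟨y, hy, rfl⟩
    have hPt := honly P hP (fun b hb => hIP ((Submodule.mem_annihilator_span_singleton w b).2 hb))
      (fun y hy => by
        by_contra hyp
        exact hmem y (Submonoid.mem_sup_left hyp) hy)
    refine hmem a (Submonoid.mem_sup_right (Submonoid.mem_powers a)) ?_
    rw [hPt]
    have : a ∈ t.under A := by rw [ht]; exact ha
    exact this
  let S : Submonoid A := p.primeCompl
  let Ap := Localization.AtPrime p
  let Mp := LocalizedModule S M
  let f : M →ₗ[A] Mp := LocalizedModule.mkLinearMap S M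
  let F : M ⊗[A] B →ₗ[A] Mp ⊗[A] B := AlgebraTensorModule.rTensor A B f
  haveI : IsLocalizedModule S F := IsLocalizedModule.rTensor (R := A) (A := A) S (N := B) f
  let w' : M ⊗[A] B := TensorProduct.comm A B M w
  have hFw : F w' ≠ 0 := fun h0 => by
    obtain ⟨c, hc⟩ := (IsLocalizedModule.eq_zero_iff S F).1 h0
    refine c.2 (hK c ((TensorProduct.comm A B M).injective ?_))
    rw [map_smul, map_zero]
    exact hc
  haveI : Module.Free Ap (Ap ⊗[A] B) := Module.free_of_flat_of_isLocalRing
  let b := Module.Free.chooseBasis Ap (Ap ⊗[A] B)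
  let ε : Mp ⊗[A] B ≃ₗ[Ap] (Module.Free.ChooseBasisIndex Ap (Ap ⊗[A] B) →₀ Mp) :=
    (AlgebraTensorModule.cancelBaseChange A Ap Ap Mp B).symm ≪≫ₗ
      (LinearEquiv.lTensor Mp b.repr) ≪≫ₗ TensorProduct.finsuppScalarRight Ap Ap Mp _
  obtain ⟨i, hi⟩ : ∃ i, ε (F w') i ≠ 0 := Finsupp.ne_iff.1 (fun h0 => hFw (ε.injective (h0.trans ε.map_zero.symm)))
  obtain ⟨⟨m, s⟩, hms⟩ := IsLocalizedModule.surj S f (ε (F w') i)
  rw [mem_weakAss_iff]
  refine ⟨inferInstance, m, fun r hr => ?_, fun a ha => ?_⟩
  · by_contra hrp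
    apply hi
    have h1 : r • (s • ε (F w') i) = 0 := by rw [hms, ← map_smul, hr, map_zero]
    have hu := ((Module.End.isUnit_iff _).1 (IsLocalizedModule.map_units f (⟨r, show r ∈ p.primeCompl from hrp⟩ : p.primeCompl))).1
    have h2 : s • ε (F w') i = 0 := hu (h1.trans (map_zero _).symm)
    exact ((Module.End.isUnit_iff _).1 (IsLocalizedModule.map_units f s)).1 (h2.trans (map_zero _).symm)
  · obtain ⟨s', hs', k, hk⟩ := hp a ha
    have h0 : (s' * a ^ k) • ε (F w') i = 0 := by
      rw [← Finsupp.smul_apply, ← LinearEquiv.restrictScalars_apply A ε, ← map_smul, ← map_smul,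
        show (s' * a ^ k) • w' = TensorProduct.comm A B M ((s' * a ^ k) • w) from (map_smul _ _ _).symm,
        hk, map_zero, map_zero, map_zero]
      rfl
    have h1 : f ((s' * a ^ k) • m) = 0 := by rw [map_smul, ← hms, smul_comm, h0, smul_zero]
    obtain ⟨c, hc⟩ := (IsLocalizedModule.eq_zero_iff S f).1 h1
    refine ⟨c * s', fun hcs => ((‹p.IsPrime›).mem_or_mem hcs).elim c.2 hs', k, ?_⟩
    rw [mul_assoc, mul_smul]
    exact hc

theorem down_etale {A B : Type u} [CommRing A] [CommRing B] [Algebra A B] [Algebra.Etale A B]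
    {M : Type u} [AddCommGroup M] [Module A M] {p : Ideal A} [p.IsPrime]
    (t : Ideal B) [t.IsPrime] (ht : t.under A = p)
    (h : t ∈ FlatCA.weakAss B (B ⊗[A] M)) : p ∈ FlatCA.weakAss A M := by
  obtain ⟨g, hgt, hstd⟩ := Algebra.IsEtaleAt.exists_isStandardEtale (R := A) t
  let L := Localization.Away g
  let P := (Algebra.IsStandardEtale.nonempty_standardEtalePresentation (R := A) (S := L)).some
  let C := AdjoinRoot P.f
  let c : C := AdjoinRoot.mk P.f P.g
  haveI : Module.Finite A C := P.monic_f.finite_adjoinRoot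
  haveI : Module.Free A C := P.monic_f.free_adjoinRoot
  let e : L ≃ₐ[A] Localization.Away c := P.equivRing.trans P.P.equivAwayAdjoinRoot
  letI : Algebra C L := (e.symm.toRingEquiv.toRingHom.comp (algebraMap C (Localization.Away c))).toAlgebra
  haveI : IsScalarTower A C L := IsScalarTower.of_algebraMap_eq fun a => by
    show algebraMap A L a = e.symm (algebraMap C (Localization.Away c) (algebraMap A C a))
    rw [← IsScalarTower.algebraMap_apply, AlgEquiv.commutes]
  haveI : IsLocalization.Away c L :=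
    IsLocalization.isLocalization_of_algEquiv (Submonoid.powers c)
      (AlgEquiv.ofRingEquiv (f := e.symm.toRingEquiv) (fun _ => rfl) : Localization.Away c ≃ₐ[C] L)
  have hd : Disjoint (Submonoid.powers g : Set B) (t : Set B) := by
    rw [Set.disjoint_left]
    rintro _ ⟨n, rfl⟩ hc
    exact hgt (‹t.IsPrime›.mem_of_pow_mem n hc)
  let tL : Ideal L := t.map (algebraMap B L)
  haveI hpr : tL.IsPrime := IsLocalization.isPrime_of_isPrime_disjoint (Submonoid.powers g) L t inferInstance hd
  have hct : tL.comap (algebraMap B L) = t :=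
    IsLocalization.comap_map_of_isPrime_disjoint (Submonoid.powers g) L inferInstance hd
  let FB : B ⊗[A] M →ₗ[B] L ⊗[A] M := AlgebraTensorModule.rTensor A M (Algebra.linearMap B L)
  haveI : IsLocalizedModule (Submonoid.powers g) FB :=
    IsLocalizedModule.rTensor (R := A) (A := B) (Submonoid.powers g) (N := M) (Algebra.linearMap B L)
  let FC : C ⊗[A] M →ₗ[C] L ⊗[A] M := AlgebraTensorModule.rTensor A M (Algebra.linearMap C L)
  haveI : IsLocalizedModule (Submonoid.powers c) FC :=
    IsLocalizedModule.rTensor (R := A) (A := C) (Submonoid.powers c) (N := M) (Algebra.linearMap C L)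
  have h1 : tL ∈ FlatCA.weakAss L (L ⊗[A] M) := by
    rw [transfer (R := B) (exists_unit_loc (Submonoid.powers g) L) tL, hct]
    exact (loc_iff' (Submonoid.powers g) FB t hd).1 h
  rw [transfer (R := C) (exists_unit_loc (Submonoid.powers c) L) tL] at h1
  have hdC : Disjoint (Submonoid.powers c : Set C) (tL.comap (algebraMap C L) : Set C) :=
    ((IsLocalization.isPrime_iff_isPrime_disjoint (Submonoid.powers c) L tL).1 hpr).2
  refine down_finite (tL.comap (algebraMap C L)) ?_ ((loc_iff' (Submonoid.powers c) FC _ hdC).2 h1)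
  rw [← ht, ← hct]
  simp only [Ideal.under_def, Ideal.comap_comap, ← IsScalarTower.algebraMap_eq]

end Groth.Agent.WeakAssFlat
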